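import Mathlib

/-!
# Involutions of the symmetric group of degree seven commuting with a double transposition
-/

set_option autoImplicit false
set_option maxRecDepth 100000
set_option synthInstance.maxSize 4000
set_option synthInstance.maxHeartbeats 400000

namespace Cfsg.Lib.L4T.T1.U7

open Equiv

/-- The double transposition. -/
def c0 : Perm (Fin 7) := swap 0 1 * swap 2 3

/-- The number with the given digits. -/
def mk (a b c d e f g : ℕ) : ℕ := a + 8 * (b + 8 * (c + 8 * (d + 8 * (e + 8 * (f + 8 * g)))))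

/-- The code of a permutation. -/
def enc (τ : Perm (Fin 7)) : ℕ := mk (τ 0) (τ 1) (τ 2) (τ 3) (τ 4) (τ 5) (τ 6)

/-- A digit. -/
def ap (w i : ℕ) : ℕ := w / 8 ^ i % 8

/-- The product of codes. -/
def mu (v w : ℕ) : ℕ := mk (ap v (ap w 0)) (ap v (ap w 1)) (ap v (ap w 2)) (ap v (ap w 3))
  (ap v (ap w 4)) (ap v (ap w 5)) (ap v (ap w 6))

theorem ap_enc (τ : Perm (Fin 7)) (i : Fin 7) : ap (enc τ) i = τ i := by
  have := (τ 0).2; have := (τ 1).2; have := (τ 2).2; have := (τ 3).2; have := (τ 4).2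
  have := (τ 5).2; have := (τ 6).2
  fin_cases i <;> simp [ap, enc, mk] <;> omega

theorem enc_mul (σ τ : Perm (Fin 7)) : enc (σ * τ) = mu (enc σ) (enc τ) := by
  have h : ∀ i : Fin 7, ap (enc σ) (ap (enc τ) i) = σ (τ i) := fun i => by rw [ap_enc, ap_enc]
  exact congr(mk $((h 0).symm) $((h 1).symm) $((h 2).symm) $((h 3).symm) $((h 4).symm)
    $((h 5).symm) $((h 6).symm))

theorem enc_inj {σ τ : Perm (Fin 7)} (h : enc σ = enc τ) : σ = τ :=
  Equiv.ext fun i => Fin.ext (by rw [← ap_enc, ← ap_enc, h])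

/-- Codes of the even elements of order at most two commuting with the double transposition. -/
def le : List ℕ :=
  [1754760, 1726081, 1238657, 1525377, 1725640, 1238216, 1524936, 1754305, 1753626, 1753171]

/-- Codes of the odd ones. -/
def lo : List ℕ := [1726088, 1238664, 1525384, 1754753, 1754312, 1725633, 1238209, 1524929, 1724954,
  1237530, 1524250, 1724499, 1237075, 1523795]

/-- The odd ones. -/
def po : List (Perm (Fin 7)) := [swap 4 5, swap 4 6, swap 5 6, swap 0 1, swap 2 3,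
  swap 0 1 * swap 2 3 * swap 4 5, swap 0 1 * swap 2 3 * swap 4 6, swap 0 1 * swap 2 3 * swap 5 6,
  swap 0 2 * swap 1 3 * swap 4 5, swap 0 2 * swap 1 3 * swap 4 6, swap 0 2 * swap 1 3 * swap 5 6,
  swap 0 3 * swap 1 2 * swap 4 5, swap 0 3 * swap 1 2 * swap 4 6, swap 0 3 * swap 1 2 * swap 5 6]

/-- Three transpositions. -/
def lt : List (Perm (Fin 7)) := [swap 4 5, swap 4 6, swap 5 6]

theorem e1 : enc 1 = 1754760 := by decide +kernel
theorem ec : enc c0 = 1754305 := by decide +kernel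
theorem eo : po.map enc = lo := by decide +kernel
theorem et : lt.map enc = lo.take 3 := by decide +kernel

theorem so : ∀ τ ∈ po, Perm.sign τ = -1 := by
  simp [po]

theorem n1 : ((List.range 7).all fun a => (List.range 7).all fun b => a == b ||
    (List.range 7).all fun c => a == c || b == c || (List.range 7).all fun d => a == d || b == d ||
    c == d || (List.range 7).all fun e =>
    [mk a (ap 1754305 a) b (ap 1754305 b) c d e].all (fun w => mu w w != 1754760 ||
      mu w 1754305 != mu 1754305 w || le.contains w || lo.contains w)) = true := by decide +kernel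

theorem n2 : (le.all fun t => le.all fun u =>
    mu (mu (mu t u) (mu (mu t u) (mu t u))) (mu (mu t u) (mu (mu t u) (mu t u))) == 1754760 ||
    (le ++ lo).all fun σ => mu σ t != mu t σ || mu σ u != mu u σ || σ == 1754760 ||
      mu σ 1754305 == 1754760 || (lo.take 3).contains σ ||
      (lo.take 3).contains (mu σ 1754305)) = true := by decide +kernel

theorem k1 {τ : Perm (Fin 7)} (h1 : τ * c0 = c0 * τ) (h2 : τ * τ = 1) :
    enc τ ∈ le ∨ enc τ ∈ lo := by
  have n : ∀ i j : Fin 7, i ≠ j → (τ i : ℕ) ≠ τ j := fun i j h e => h (τ.injective (Fin.ext e))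
  have h := n1
  simp only [List.all_eq_true (l := List.range 7), Bool.or_eq_true, beq_iff_eq, List.mem_range,
    or_assoc] at h
  replace h := ((h _ (τ 0).2 _ (τ 2).2).resolve_left (n _ _ (by decide)) _ (τ 4).2).resolve_left
    (n _ _ (by decide))
  replace h := (h.resolve_left (n _ _ (by decide)) _ (τ 5).2).resolve_left (n _ _ (by decide))
  replace h := (h.resolve_left (n _ _ (by decide))).resolve_left (n _ _ (by decide)) _ (τ 6).2
  have a : ap 1754305 (τ 0) = τ 1 := by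
    rw [← ec, ap_enc]; exact congrArg Fin.val (DFunLike.congr_fun h1 0).symm
  have b : ap 1754305 (τ 2) = τ 3 := by
    rw [← ec, ap_enc]; exact congrArg Fin.val (DFunLike.congr_fun h1 2).symm
  have c := congrArg enc h1
  have d := congrArg enc h2
  rw [enc_mul, enc_mul, ec] at c
  rw [enc_mul, e1] at d
  rw [a, b] at h
  change [enc τ].all _ = true at h
  simpa [c, d] using h

theorem k1' {τ : Perm (Fin 7)} (h1 : τ * c0 = c0 * τ) (h2 : τ * τ = 1) (h3 : Perm.sign τ = 1) :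
    enc τ ∈ le := (k1 h1 h2).resolve_right fun h => by
  rw [← eo, List.mem_map] at h
  obtain ⟨ρ, h4, h5⟩ := h
  rw [← enc_inj h5, so ρ h4] at h3
  exact absurd h3 (by decide)

theorem mem_lt {τ : Perm (Fin 7)} (h : enc τ ∈ lo.take 3) : τ ∈ lt := by
  rw [← et, List.mem_map] at h
  obtain ⟨ρ, h4, h5⟩ := h
  exact enc_inj h5 ▸ h4

theorem k2 {σ t u : Perm (Fin 7)} (a1 : t * c0 = c0 * t) (a2 : t * t = 1) (a3 : Perm.sign t = 1)
    (b1 : u * c0 = c0 * u) (b2 : u * u = 1) (b3 : Perm.sign u = 1)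
    (h : t * u * (t * u * (t * u)) * (t * u * (t * u * (t * u))) ≠ 1) (c1 : σ * c0 = c0 * σ)
    (c2 : σ * σ = 1) (d1 : σ * t = t * σ) (d2 : σ * u = u * σ) (e : σ ≠ 1) (e' : σ * c0 ≠ 1) :
    σ ∈ lt ∨ σ * c0 ∈ lt := by
  have k := List.all_eq_true.1 (List.all_eq_true.1 n2 _ (k1' a1 a2 a3)) _ (k1' b1 b2 b3)
  rw [← e1, ← ec] at k
  simp only [← enc_mul, Bool.or_eq_true, beq_iff_eq, List.all_eq_true, bne_iff_ne,
    List.contains_iff_mem] at k
  have k := k.resolve_left (mt enc_inj h) _ (List.mem_append.2 (k1 c1 c2))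
  simp only [← enc_mul, d1, d2, ne_eq, not_true, false_or] at k
  rcases k with ((k | k) | k) | k
  exacts [absurd (enc_inj k) e, absurd (enc_inj k) e', Or.inl (mem_lt k), Or.inr (mem_lt k)]

theorem k0 : c0 * c0 = 1 ∧ c0 ≠ 1 := by decide +kernel

theorem s0 : Perm.sign c0 = 1 := by simp [c0]

theorem k3' : ∀ τ ∈ lt, ∃ r ∈ [(4 : Fin 7), 5, 6], mu (enc (τ * c0)) (enc (τ * c0)) = enc 1 ∧
    ∀ i ∈ [(0 : Fin 7), 1, 2, 3, 4, 5, 6], (τ * c0) i ≠ i ↔ i ≠ r := by decide +kernel

theorem k3 (τ : Perm (Fin 7)) (h : τ ∈ lt) :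
    (τ * c0).support.card = 6 ∧ τ * c0 * (τ * c0) = 1 := by
  obtain ⟨r, -, h1, h2⟩ := k3' τ h
  refine ⟨?_, enc_inj ((enc_mul _ _).trans h1)⟩
  have : (τ * c0).support = Finset.univ.erase r := by
    ext i
    rw [Perm.mem_support, h2 i (by fin_cases i <;> simp)]; simp
  rw [this, Finset.card_erase_of_mem (Finset.mem_univ _)]; simp

theorem k4 : ∀ τ ∈ lt.map enc, ∃ r ∈ [(4 : Fin 7), 5, 6],
    ∀ x ∈ [enc (swap 0 1 * swap 0 2)], ∀ y ∈ [enc (swap 0 3 * swap 1 r)],
    ∀ w ∈ [enc (swap 0 3 * swap 3 r)], ∀ v ∈ [enc (swap 3 r * swap 3 2)],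
    ∀ c ∈ [enc (swap r 1 * swap r 2)], mu x τ = mu τ x ∧ mu y τ = mu τ y ∧ mu w τ = mu τ w ∧
      x ≠ enc 1 ∧ mu v y = mu y x ∧ mu c (mu v x) = mu x v ∧ mu x w = mu w c := by
  decide +kernel

theorem card48 {τ : Perm (Fin 7)} (h : τ ∈ lt) :
    Nat.card (Subgroup.centralizer {τ * c0}) = 48 := by
  obtain ⟨h1, h2⟩ := k3 τ h
  have h0 : orderOf (τ * c0) = 2 := orderOf_eq_prime (by rw [pow_two, h2]) fun e => by
    simp [e] at h1
  obtain ⟨k, hk⟩ := Perm.cycleType_prime_order (σ := τ * c0) (h0 ▸ Nat.prime_two)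
  rw [h0] at hk
  rw [← Perm.sum_cycleType, hk] at h1
  simp only [Multiset.sum_replicate, smul_eq_mul] at h1
  obtain rfl : k = 2 := by omega
  rw [Perm.nat_card_centralizer, hk]
  decide

theorem rel {G : Type*} [Group G] {x y w v c : G} (h5 : v * y = y * x) (h6 : c * (v * x) = x * v)
    (h7 : x * w = w * c) : x = w * (x * (y * x * y⁻¹) * x⁻¹ * (y * x * y⁻¹)⁻¹) * w⁻¹ := by
  rw [← h5, mul_inv_cancel_right, ← h6, eq_mul_inv_iff_mul_eq, h7]
  group

theorem not_solv {τ : Perm (Fin 7)} (h : τ ∈ lt) {H : Subgroup (Perm (Fin 7))}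
    (hH : ∀ a, Perm.sign a = 1 → a * τ = τ * a → a ∈ H) : ¬ Group.IsSolvable H := by
  obtain ⟨r, hr, k⟩ := k4 _ (List.mem_map_of_mem h)
  simp only [List.mem_singleton, forall_eq, ← enc_mul] at k
  obtain ⟨h1, h2, h3, h4, h5, h6, h7⟩ := k
  have r1 : (1 : Fin 7) ≠ r ∧ (3 : Fin 7) ≠ r := by
    simp only [List.mem_cons, List.not_mem_nil, or_false] at hr
    rcases hr with rfl | rfl | rfl <;> decide
  let x : H := ⟨_, hH _ (by simp) (enc_inj h1)⟩
  let y : H := ⟨_, hH _ (by simp [r1.1]) (enc_inj h2)⟩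
  let w : H := ⟨_, hH _ (by simp [r1.2]) (enc_inj h3)⟩
  have e : x = w * (x * (y * x * y⁻¹) * x⁻¹ * (y * x * y⁻¹)⁻¹) * w⁻¹ :=
    Subtype.ext (rel (enc_inj h5) (enc_inj h6) (enc_inj h7))
  refine not_isSolvable_of_mem_derivedSeries (g := x) (fun e => h4 (congrArg (enc ·.1) e))
    fun n => ?_
  induction n with
  | zero => exact Subgroup.mem_top x
  | succ n ih =>
    rw [e]
    exact (derivedSeries_normal _ _).conj_mem _
      (Subgroup.commutator_mem_commutator ih ((derivedSeries_normal _ _).conj_mem _ ih _)) _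

end Cfsg.Lib.L4T.T1.U7
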